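import Groth.Agent.VBCurve.K924.FibNodes
import Groth.Agent.VBCurve.K433.SubRank
import Groth.Agent.VBCurve.K427.SubVan
import Groth.Agent.VBCurve.K587.TowerAux

/-!
# SUB-FIBRE: the fibre of `K N l` at a rational point
-/

set_option autoImplicit false
universe u
open CategoryTheory CategoryTheory.Limits AlgebraicGeometry

namespace K553.Sub

variable {k : Type u} [Field k] [IsAlgClosed k] (C : Over (Spec (CommRingCat.of k)))
  [IsIntegral C.left] [IsProper C.hom] [Smooth C.hom] (hdim : topologicalKrullDim C.left = 1)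

section fibre

variable {g : ℕ} (hgen : Curv2.genus k C.left = g) {T : Over (Spec (CommRingCat.of k))} [IsIntegral T.left]
  [IsProper T.hom] {N : C.left.Modules} (hN : PicF.IsInvertible N)
  {m : ℕ} (b : Module.Basis (Fin m) k (Coh.structureModule C.left ⟶ N))

set_option linter.unusedSectionVars false in
include hdim hgen hN in
/-- A section of `K N l` near `t`, written as `∑ f_i ⊗ b_i`, has at `t` a value `∑ f_i(t) b_i` which vanishes
on `∑ z(t)`; all sections of `N` vanishing on `∑ z(t)` arise in this way. -/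
theorem fibre_K (l : List (T ⟶ C)) (hl : 2 * (g : ℤ) - 1 ≤ Curv2.deg k C.left N 1 - l.length)
    (t : pt (Spec (CommRingCat.of k)) ⟶ T) (c : Fin m → k) :
    (∃ (s : (K N l).presheaf.stalk (atp t)) (f : Fin m → T.left.presheaf.stalk (atp t)),
      Groth.Agent.CycB.StalkExact.stalkLin (Kι N l) (atp t) s = ∑ i, f i • gsec (atp t) (b i) ∧
      ∀ i, f i - Curv2.stalkMap k T.left (atp t) (c i) ∈ IsLocalRing.maximalIdeal (T.left.presheaf.stalk (atp t))) ↔
    Van N (l.map fun z => t ≫ z) (∑ i, c i • b i) := by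
  refine K924.Fib.fibre_of_nodes C hdim (g := g) hN b t
    (fun l hl r hr => rank_K C hdim hgen hN l hl r hr) (fun l z h => ?_)
    (fun x => vanSub C N x) (fun x v => Iff.rfl)
    (fun x hx => (finrank_vanSub C hdim hgen N hN x).2.2 hx) l hl c
  have hI : HasInjectiveResolutions (TX C T).left.Modules := Groth.Agent.Dcoh.DerSch.hasInjectiveResolutions _
  obtain ⟨β, w, hS, -⟩ := K587.Tower.exists_tower_of C hdim hN l z
    (K433.SubRank.isZero_Rpush C hdim hgen hN (z :: l) h 1 le_rfl)
  exact ⟨β, w, hS⟩

end fibre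

end K553.Sub
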