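import Mathlib.LinearAlgebra.Dimension.Finrank
import Mathlib.LinearAlgebra.FiniteDimensional.Basic
import Mathlib.LinearAlgebra.FiniteDimensional.Lemmas
import Mathlib.LinearAlgebra.Basis.Basic
import Mathlib.RingTheory.LocalRing.ResidueField.Basic
import Mathlib.RingTheory.Ideal.Quotient.Operations

/-!
# SUB-FIBRE, the algebra: values of the elements of a direct summand of `A^m`, `A` local with residue field `k`
-/

set_option autoImplicit false
universe u v w

namespace K924.FibAlg

open IsLocalRing

variable {k : Type u} [Field k] {A : Type v} [CommRing A] [IsLocalRing A] (φ : k →+* A)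
  (hφ : ∀ a : A, ∃ c : k, a - φ c ∈ maximalIdeal A)

include hφ in
/-- A subspace of `k^m` of dimension at most `r` containing the values of the elements of a direct summand
of rank `r` of `A^m` consists of such values. -/
theorem exists_of_mem {P Q : Type w} [AddCommGroup P] [Module A P] [AddCommGroup Q] [Module A Q]
    {m r : ℕ} (p : Module.Basis (Fin r) A P) (e : Module.Basis (Fin m) A Q) (ι : P →ₗ[A] Q) (ρ : Q →ₗ[A] P)
    (hρ : ∀ x, ρ (ι x) = x) (V : Submodule k (Fin m → k)) (hV : Module.finrank k V ≤ r)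
    (hmem : ∀ (c : Fin m → k) (s : P) (f : Fin m → A), ι s = ∑ i, f i • e i →
      (∀ i, f i - φ (c i) ∈ maximalIdeal A) → c ∈ V)
    (c : Fin m → k) (hc : c ∈ V) :
    ∃ (s : P) (f : Fin m → A), ι s = ∑ i, f i • e i ∧ ∀ i, f i - φ (c i) ∈ maximalIdeal A := by
  classical
  -- the values of the basis
  choose d hd using fun (j : Fin r) (i : Fin m) => hφ (e.repr (ι (p j)) i)
  have hdV : ∀ j, d j ∈ V := fun j =>
    hmem (d j) (p j) (fun i => e.repr (ι (p j)) i) (e.sum_repr _).symm (hd j)
  have hli : LinearIndependent k (fun j => (⟨d j, hdV j⟩ : V)) := by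
    rw [Fintype.linearIndependent_iff]
    intro g hg j
    have hg' : ∀ i, ∑ j, g j * d j i = 0 := by
      intro i
      have h1 := congrArg (fun v : V => (v : Fin m → k) i) hg
      simpa [Finset.sum_apply] using h1
    -- `∑ φ(g_j) ι(p_j) ∈ m Q`
    have h2 : ∀ i, e.repr (ι (∑ j, φ (g j) • p j)) i ∈ maximalIdeal A := by
      intro i
      have h3 : e.repr (ι (∑ j, φ (g j) • p j)) i =
          ∑ j, φ (g j) * (e.repr (ι (p j)) i - φ (d j i)) := by
        have h4 : ∑ j, φ (g j) * φ (d j i) = 0 := by
          rw [← map_zero φ, ← hg' i, map_sum]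
          simp
        simp only [mul_sub, Finset.sum_sub_distrib, h4, sub_zero]
        simp [map_sum]
      rw [h3]
      exact sum_mem fun j _ => Ideal.mul_mem_left _ _ (hd j i)
    -- apply the retraction
    have h5 : ∑ j, φ (g j) • p j = ∑ i, e.repr (ι (∑ j, φ (g j) • p j)) i • ρ (e i) := by
      conv_lhs => rw [← hρ (∑ j, φ (g j) • p j), ← e.sum_repr (ι (∑ j, φ (g j) • p j))]
      rw [map_sum]
      simp only [map_smul]
    have h6 : p.repr (∑ j, φ (g j) • p j) j ∈ maximalIdeal A := by
      rw [h5, map_sum, Finsupp.finsetSum_apply]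
      refine sum_mem fun i _ => ?_
      rw [map_smul, Finsupp.smul_apply, smul_eq_mul]
      exact Ideal.mul_mem_right _ _ (h2 i)
    have h7 : p.repr (∑ j, φ (g j) • p j) j = φ (g j) := by
      rw [p.repr_sum_self]
    rw [h7] at h6
    by_contra hne
    exact (mem_maximalIdeal _).mp h6 ((isUnit_iff_ne_zero.mpr hne).map φ)
  have hcard : Fintype.card (Fin r) = Module.finrank k V := by
    have := hli.fintype_card_le_finrank
    rw [Fintype.card_fin] at this ⊢
    exact le_antisymm this hV
  have hsp : (⊤ : Submodule k V) ≤ Submodule.span k (Set.range fun j => (⟨d j, hdV j⟩ : V)) := by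
    rw [hli.span_eq_top_of_card_eq_finrank' hcard]
  have hc' : (⟨c, hc⟩ : V) ∈ Submodule.span k (Set.range fun j => (⟨d j, hdV j⟩ : V)) := hsp Submodule.mem_top
  rw [Submodule.mem_span_range_iff_exists_fun] at hc'
  obtain ⟨g, hg⟩ := hc'
  have hg' : ∀ i, c i = ∑ j, g j * d j i := by
    intro i
    have h1 := congrArg (fun v : V => (v : Fin m → k) i) hg
    simpa [Finset.sum_apply] using h1.symm
  refine ⟨∑ j, φ (g j) • p j, fun i => e.repr (ι (∑ j, φ (g j) • p j)) i, (e.sum_repr _).symm, fun i => ?_⟩
  have h3 : e.repr (ι (∑ j, φ (g j) • p j)) i - φ (c i) =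
      ∑ j, φ (g j) * (e.repr (ι (p j)) i - φ (d j i)) := by
    have h4 : φ (c i) = ∑ j, φ (g j) * φ (d j i) := by
      rw [hg' i, map_sum]
      simp
    rw [h4]
    simp only [mul_sub, Finset.sum_sub_distrib]
    congr 1
    simp [map_sum]
  rw [h3]
  exact sum_mem fun j _ => Ideal.mul_mem_left _ _ (hd j i)

end K924.FibAlg
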