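import Groth.Agent.VBCurve.K924.FibSec
import Groth.Agent.VBCurve.K924.FibAlg
import Groth.Agent.Pic13.H969.StalkFree
import Mathlib.Algebra.Exact.Basic

/-!
# SUB-FIBRE: the fibre of `K N l` at a rational point, from the other nodes

* `exists_const'`: elements of the local ring at a rational point are constant modulo the maximal ideal;
* `exists_retraction`: `Kι N l` has a retraction on stalks, from the short exact sequences of the tower;
* `fibre_core`: the values at `t` of the sections of `K N l` are the sections of `N` vanishing on `∑ z(t)`.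
-/

set_option autoImplicit false
universe u
open CategoryTheory CategoryTheory.Limits AlgebraicGeometry Opposite TopologicalSpace

namespace K924.Fib

open K553.Sub
open Groth.Agent.Sga67.Sec Groth.Agent.Sga67.LocBasis Groth.Agent.Sga67.LocBasisStalk
open Groth.Agent.Krr.H487.LocBasisPull Groth.Agent.CycB.StalkExact

variable {k : Type u} [Field k]

/-- the local ring at a rational point -/
theorem exists_const' {T : Scheme.{u}} [T.Over (Spec (CommRingCat.of k))] (t : Spec (CommRingCat.of k) ⟶ T)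
    (ht : t ≫ (T ↘ Spec (CommRingCat.of k)) = 𝟙 _) (x : T) (hxt : t (IsLocalRing.closedPoint k) = x)
    (a : T.presheaf.stalk x) :
    ∃ c : k, a - Curv2.stalkMap k T x c ∈ IsLocalRing.maximalIdeal (T.presheaf.stalk x) := by
  obtain ⟨U, hx, F, rfl⟩ := T.presheaf.exists_germ_eq a
  have hU : (⊤ : (Spec (CommRingCat.of k)).Opens) ≤ t ⁻¹ᵁ U := by
    intro y _
    have : y = IsLocalRing.closedPoint k := Subsingleton.elim _ _
    rw [this]
    change t (IsLocalRing.closedPoint k) ∈ U
    rw [hxt]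
    exact hx
  let c : k := (Scheme.ΓSpecIso (CommRingCat.of k)).hom (t.appLE U ⊤ hU F)
  have hc : (Scheme.ΓSpecIso (CommRingCat.of k)).inv c = t.appLE U ⊤ hU F := by
    have := congr($((Scheme.ΓSpecIso (CommRingCat.of k)).hom_inv_id) (t.appLE U ⊤ hU F))
    rw [CommRingCat.comp_apply] at this
    exact this
  refine ⟨c, ?_⟩
  let d : Γ(T, U) := F - resO T (le_top : U ≤ ⊤) (Coh.toGlobal (T ↘ Spec (CommRingCat.of k)) c)
  have h1 : gerO x hx d = T.presheaf.germ U x hx F - Curv2.stalkMap k T x c := by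
    change (T.presheaf.germ U x hx).hom _ = _
    rw [map_sub]
    congr 1
    exact gerO_res (le_top : U ≤ ⊤) x hx (Coh.toGlobal (T ↘ Spec (CommRingCat.of k)) c)
  rw [← h1]
  have h2 : t.appLE U ⊤ hU (resO T (le_top : U ≤ ⊤) (Coh.toGlobal (T ↘ Spec (CommRingCat.of k)) c)) =
      (Scheme.ΓSpecIso (CommRingCat.of k)).inv c := by
    change (T.presheaf.map (homOfLE (le_top : U ≤ ⊤)).op ≫ t.appLE U ⊤ hU) (Coh.toGlobal _ c) = _
    rw [Scheme.Hom.map_appLE]
    have h3 : t.appLE ⊤ ⊤ le_top = t.appTop := (Scheme.Hom.app_eq_appLE t).symm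
    have h4 : (T ↘ Spec (CommRingCat.of k)).appTop ≫ t.appTop = 𝟙 _ := by
      rw [← Scheme.Hom.comp_appTop, ht, Scheme.Hom.id_appTop]
    rw [h3]
    exact congr($h4 ((Scheme.ΓSpecIso (CommRingCat.of k)).inv c))
  have h3 : t.appLE U ⊤ hU d = 0 := by
    have : t.appLE U ⊤ hU d = t.appLE U ⊤ hU F - (Scheme.ΓSpecIso (CommRingCat.of k)).inv c := by
      rw [← h2]
      exact map_sub _ _ _
    rw [this, hc, sub_self]
  rw [IsLocalRing.mem_maximalIdeal, mem_nonunits_iff]
  intro hu
  have h4 : x ∈ T.basicOpen d := (Scheme.mem_basicOpen _ _ _ hx).mpr hu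
  have h5 := Scheme.basicOpen_appLE t ⊤ U hU d
  rw [h3, Scheme.basicOpen_zero] at h5
  have h6 : IsLocalRing.closedPoint k ∈ (⊤ : (Spec (CommRingCat.of k)).Opens) ⊓ t ⁻¹ᵁ (T.basicOpen d) :=
    ⟨Set.mem_univ _, show t (IsLocalRing.closedPoint k) ∈ T.basicOpen d by rw [hxt]; exact h4⟩
  rw [← h5] at h6
  exact h6

variable {C : Over (Spec (CommRingCat.of k))}

/-- the splitting of one step of the tower -/
theorem exists_retraction_step {X : Scheme.{u}} {S : ShortComplex X.Modules} (hS : S.ShortExact)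
    (h3 : PicF.IsInvertible S.X₃) (x : X) :
    ∃ ρ : S.X₂.presheaf.stalk x →ₗ[X.presheaf.stalk x] S.X₁.presheaf.stalk x, ∀ s, ρ (stalkLin S.f x s) = s := by
  obtain ⟨hi, he, hs⟩ := stalkLin_shortExact S hS x
  have hfree := (Groth.Agent.Pic13.H969.StalkFree.free_stalk_of_isInvertible h3 x).1
  obtain ⟨l, hl⟩ := Module.projective_lifting_property (stalkLin S.g x) LinearMap.id hs
  obtain ⟨-, ρ, hρ⟩ := ((Function.Exact.split_tfae' he).out 0 1 rfl rfl).mp ⟨hi, l, hl⟩
  exact ⟨ρ, fun s => congr($hρ s)⟩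

theorem exists_basis_stalk {X : Scheme.{u}} {M : X.Modules} {r : ℕ} (h : FlatMod.IsFinLocFreeOfRank r M) (x : X) :
    Nonempty (Module.Basis (Fin r) (X.presheaf.stalk x) (M.presheaf.stalk x)) := by
  obtain ⟨U, hx, he⟩ := h x
  obtain ⟨b, hb⟩ := nonempty_restrict_iso_iff.mp he
  obtain ⟨β, -⟩ := exists_stalkBasis hb x hx
  exact ⟨β⟩

theorem exists_basis_sec {T : Over (Spec (CommRingCat.of k))} {N : C.left.Modules} (x : T.left) {m : ℕ}
    (b : Fin m → (Coh.structureModule C.left ⟶ N)) (hiso : IsIso (Sigma.desc fun i : Fin m => sec (T := T) (b i))) :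
    ∃ e : Module.Basis (Fin m) (T.left.presheaf.stalk x) ((K N ([] : List (T ⟶ C))).presheaf.stalk x),
      ∀ i, e i = gsec x (b i) := by
  have hb := (free_isLocBasis T.left m).of_iso (asIso (Sigma.desc fun i : Fin m => sec (T := T) (b i)))
  obtain ⟨e, he⟩ := exists_stalkBasis hb x trivial
  refine ⟨e, fun i => ?_⟩
  rw [he]
  have h1 : appS (asIso (Sigma.desc fun i : Fin m => sec (T := T) (b i))).hom ⊤ (freeBasis T.left m i) =
      appS (sec (T := T) (b i)) ⊤ (one T.left ⊤) := by
    unfold freeBasis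
    rw [← appS_comp, asIso_hom, Sigma.ι_desc]
  rw [h1]
  rfl

/-- The values at `t` of the sections of `K N l`, in terms of the facts used. -/
theorem fibre_core (hpull : TwPull C) {N : C.left.Modules} {T : Over (Spec (CommRingCat.of k))}
    (t : pt (Spec (CommRingCat.of k)) ⟶ T) (l : List (T ⟶ C)) {m : ℕ}
    (b : Module.Basis (Fin m) k (Coh.structureModule C.left ⟶ N))
    (hiso : IsIso (Sigma.desc fun i : Fin m => sec (T := T) (b i)))
    (r : ℕ) (hr : FlatMod.IsFinLocFreeOfRank r (K N l))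
    (hret : ∃ ρ : (K N ([] : List (T ⟶ C))).presheaf.stalk (atp t) →ₗ[T.left.presheaf.stalk (atp t)]
      (K N l).presheaf.stalk (atp t), ∀ s, ρ (stalkLin (Kι N l) (atp t) s) = s)
    (W : Submodule k (Coh.structureModule C.left ⟶ N)) (hW : ∀ v, v ∈ W ↔ Van N (l.map fun z => t ≫ z) v)
    (hWr : Module.finrank k W ≤ r) (c : Fin m → k) :
    (∃ (s : (K N l).presheaf.stalk (atp t)) (f : Fin m → T.left.presheaf.stalk (atp t)),
      Groth.Agent.CycB.StalkExact.stalkLin (Kι N l) (atp t) s = ∑ i, f i • gsec (atp t) (b i) ∧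
      ∀ i, f i - Curv2.stalkMap k T.left (atp t) (c i) ∈ IsLocalRing.maximalIdeal (T.left.presheaf.stalk (atp t))) ↔
    Van N (l.map fun z => t ≫ z) (∑ i, c i • b i) := by
  constructor
  · rintro ⟨s, f, h1, h2⟩
    exact van_of_stalk hpull t l b c s f h1 h2
  · intro hc
    obtain ⟨p⟩ := exists_basis_stalk hr (atp t)
    obtain ⟨e, he⟩ := exists_basis_sec (atp t) b hiso
    obtain ⟨ρ, hρ⟩ := hret
    let V : Submodule k (Fin m → k) := W.comap (Fintype.linearCombination k b)
    have hVm : ∀ c, c ∈ V ↔ Van N (l.map fun z => t ≫ z) (∑ i, c i • b i) := by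
      intro c
      rw [← hW]
      exact Iff.rfl
    have hinj : Function.Injective (Fintype.linearCombination k b) :=
      linearIndependent_iff_injective_fintypeLinearCombination.mp b.linearIndependent
    have hV : Module.finrank k V ≤ r := by
      refine le_trans ?_ hWr
      have := Module.Finite.of_basis b
      let g : V →ₗ[k] W := (Fintype.linearCombination k b).restrict fun x hx => hx
      refine LinearMap.finrank_le_finrank_of_injective (f := g) ?_
      intro x y hxy
      exact Subtype.ext (hinj (congrArg Subtype.val hxy))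
    obtain ⟨s, f, h1, h2⟩ := K924.FibAlg.exists_of_mem (Curv2.stalkMap k T.left (atp t))
      (exists_const' t.left (Over.w t) (atp t) rfl) p e (stalkLin (Kι N l) (atp t)) ρ hρ V hV
      (fun c s f h1 h2 => (hVm c).mpr (van_of_stalk hpull t l b c s f (by rw [h1]; simp only [he]) h2)) c
      ((hVm c).mpr hc)
    exact ⟨s, f, by rw [h1]; simp only [he], h2⟩

theorem Kι_nil {T : Over (Spec (CommRingCat.of k))} (N : C.left.Modules) :
    Kι N ([] : List (T ⟶ C)) = 𝟙 (K N ([] : List (T ⟶ C))) :=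
  (Coh.push (pr C T).left).map_id _

theorem Kι_cons {T : Over (Spec (CommRingCat.of k))} (N : C.left.Modules) (z : T ⟶ C) (l : List (T ⟶ C)) :
    Kι N (z :: l) = Kπ N z l ≫ Kι N l :=
  (Coh.push (pr C T).left).map_comp (twπ N (pr C T ≫ z) (up l) (qr C T)) (twι N (up l) (qr C T))

/-- `Kι N l` is locally split injective. -/
theorem exists_retraction {T : Over (Spec (CommRingCat.of k))} {N : C.left.Modules} (x : T.left) (P : List (T ⟶ C) → Prop)
    (hP : ∀ z l, P (z :: l) → P l)
    (hstep : ∀ (z : T ⟶ C) (l : List (T ⟶ C)), P (z :: l) →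
      ∃ (b : K N l ⟶ tw N l z) (w : Kπ N z l ≫ b = 0), (ShortComplex.mk _ _ w).ShortExact)
    (hinv : ∀ (z : T ⟶ C) (l : List (T ⟶ C)), PicF.IsInvertible (tw N l z)) :
    ∀ l : List (T ⟶ C), P l → ∃ ρ : (K N ([] : List (T ⟶ C))).presheaf.stalk x →ₗ[T.left.presheaf.stalk x]
      (K N l).presheaf.stalk x, ∀ s, ρ (stalkLin (Kι N l) x s) = s
  | [], _ => ⟨LinearMap.id, fun s => by rw [Kι_nil, stalkLin_id]; rfl⟩
  | z :: l, h => by
      obtain ⟨ρ, hρ⟩ := exists_retraction x P hP hstep hinv l (hP z l h)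
      obtain ⟨b, w, hS⟩ := hstep z l h
      obtain ⟨ρ', hρ'⟩ := exists_retraction_step hS (hinv z l) x
      refine ⟨ρ'.comp ρ, fun s => ?_⟩
      rw [Kι_cons, stalkLin_comp]
      change ρ' (ρ (stalkLin (Kι N l) x (stalkLin (Kπ N z l) x s))) = s
      rw [hρ]
      exact hρ' s

end K924.Fib
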