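import Groth.Agent.VBCurve.K924.FibCore
import Groth.Agent.VBCurve.K471.SubD
import Groth.Agent.VBCurve.K569.SubInv
import Groth.Agent.VBCurve.K405.SubFree

/-!
# SUB-FIBRE: `fibre_K` from the nodes SUB-RANK, SUB-TOWER, SUB-VAN
-/

set_option autoImplicit false
set_option linter.unusedSectionVars false
universe u
open CategoryTheory CategoryTheory.Limits AlgebraicGeometry

namespace K924.Fib

open K553.Sub

variable {k : Type u} [Field k] [IsAlgClosed k] (C : Over (Spec (CommRingCat.of k)))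
  [IsIntegral C.left] [IsProper C.hom] [Smooth C.hom] (hdim : topologicalKrullDim C.left = 1)
  {g : ℕ} {T : Over (Spec (CommRingCat.of k))} [IsIntegral T.left]
  [IsProper T.hom] {N : C.left.Modules} (hN : PicF.IsInvertible N)
  {m : ℕ} (b : Module.Basis (Fin m) k (Coh.structureModule C.left ⟶ N))

include hdim hN in
/-- `fibre_K` from SUB-RANK, SUB-TOWER, SUB-VAN. -/
theorem fibre_of_nodes (t : pt (Spec (CommRingCat.of k)) ⟶ T)
    (hrank : ∀ (l : List (T ⟶ C)), 2 * (g : ℤ) - 1 ≤ Curv2.deg k C.left N 1 - l.length → ∀ r : ℕ,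
      (r : ℤ) = Curv2.deg k C.left N 1 - l.length + 1 - g → FlatMod.IsFinLocFreeOfRank r (K N l))
    (htower : ∀ (l : List (T ⟶ C)) (z : T ⟶ C),
      2 * (g : ℤ) - 1 ≤ Curv2.deg k C.left N 1 - (z :: l).length →
      ∃ (b : K N l ⟶ tw N l z) (w : Kπ N z l ≫ b = 0), (ShortComplex.mk _ _ w).ShortExact)
    (W : List (pt (Spec (CommRingCat.of k)) ⟶ C) → Submodule k (Coh.structureModule C.left ⟶ N))
    (hW : ∀ x v, v ∈ W x ↔ Van N x v)
    (hWr : ∀ x, 2 * (g : ℤ) - 1 ≤ Curv2.deg k C.left N 1 - x.length →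
      (Module.finrank k (W x) : ℤ) = Curv2.deg k C.left N 1 - x.length + 1 - g)
    (l : List (T ⟶ C)) (hl : 2 * (g : ℤ) - 1 ≤ Curv2.deg k C.left N 1 - l.length) (c : Fin m → k) :
    (∃ (s : (K N l).presheaf.stalk (atp t)) (f : Fin m → T.left.presheaf.stalk (atp t)),
      Groth.Agent.CycB.StalkExact.stalkLin (Kι N l) (atp t) s = ∑ i, f i • gsec (atp t) (b i) ∧
      ∀ i, f i - Curv2.stalkMap k T.left (atp t) (c i) ∈ IsLocalRing.maximalIdeal (T.left.presheaf.stalk (atp t))) ↔
    Van N (l.map fun z => t ≫ z) (∑ i, c i • b i) := by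
  have hWl := hWr (l.map fun z => t ≫ z) (by rw [List.length_map]; exact hl)
  rw [List.length_map] at hWl
  refine fibre_core (nonempty_tw_pull) t l b (isIso_desc_sec C hN b) _ (hrank l hl _ hWl) ?_ (W (l.map fun z => t ≫ z))
    (hW _) le_rfl c
  refine exists_retraction (atp t) (fun l => 2 * (g : ℤ) - 1 ≤ Curv2.deg k C.left N 1 - l.length) ?_
    (fun z l h => htower l z h) (fun z l => isInvertible_tw C hdim N hN l z) l hl
  intro z l h
  simp only [List.length_cons] at h
  push_cast at h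
  omega

end K924.Fib
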