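import Groth.Agent.VBCurve.K553.SubDefs2
import Groth.Agent.Vanish.K911.PullIdeal
import Groth.Agent.BunMod.K670.PbComp
import Groth.Agent.FlatMor.K249.LFDesc
import Groth.Agent.Krr.H484.PullExt

/-!
# SUB-FIBRE, first part: the values of sections of `K N l` at a rational point vanish on the divisor

* `appS_psec`, `appS_sec`: the sections `psec y v`, `sec v`;
* `van_of_sec`, `van_of_stalk`: a section of `K N l` near `t` which is `∑ f_i ⊗ b_i` in `K N []` has a value
  `∑ f_i(t) b_i` in `N(-∑ z(t))`;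
* `appLE_point'`: the value of a function at a rational point.
-/

set_option autoImplicit false
universe u
open CategoryTheory CategoryTheory.Limits AlgebraicGeometry Opposite TopologicalSpace

namespace K924.Fib

open K553.Sub
open Groth.Agent.Sga67.Sec Groth.Agent.Sga67.LocBasis Groth.Agent.Sga67.LocBasisStalk
open Groth.Agent.Krr.H487.LocBasisPull

section gen

theorem pullUnitIso_one {X Y : Scheme.{u}} (q : Y ⟶ X) (U : X.Opens) :
    appS (Groth.Agent.Krr.H482.PullTens.pullUnitIso q).hom (q ⁻¹ᵁ U) (pbS q _ (one X U)) = one Y (q ⁻¹ᵁ U) := by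
  have h := Groth.Agent.Fga.UnitRestrict.unit_pullbackUnitHom q
  have h2 := congrArg (fun φ => appS φ U (one X U)) h
  refine h2.trans ?_
  exact map_one (q.app U).hom

theorem term_eq {X Y : Scheme.{u}} (f : X ⟶ Y) (q : Y ⟶ X) (hq : f ≫ q = 𝟙 X) (N : X.Modules) (V : Y.Opens)
    (hV : (⊤ : X.Opens) ≤ f ⁻¹ᵁ V) (a : Γ(Y, V)) (n : Sec N ⊤) :
    appS ((Scheme.Modules.pullbackId X).hom.app N) ⊤ (res _ hV
      (appS ((Scheme.Modules.pullbackCongr hq).hom.app N) (f ⁻¹ᵁ V)
        (appS ((Scheme.Modules.pullbackComp f q).hom.app N) (f ⁻¹ᵁ V)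
          ((f.app V a : Γ(X, f ⁻¹ᵁ V)) • pbS f _ (res ((Scheme.Modules.pullback q).obj N) (le_top : V ≤ ⊤)
            (pbS q N n : Sec ((Scheme.Modules.pullback q).obj N) ⊤)))))) =
    (f.appLE V ⊤ hV a : Γ(X, ⊤)) • n := by
  have h1 : appS ((Scheme.Modules.pullbackComp f q).hom.app N) (f ⁻¹ᵁ V)
      (pbS f _ (res ((Scheme.Modules.pullback q).obj N) (le_top : V ≤ ⊤)
        (pbS q N n : Sec ((Scheme.Modules.pullback q).obj N) ⊤))) =
      res ((Scheme.Modules.pullback (f ≫ q)).obj N) (le_top : f ⁻¹ᵁ V ≤ ⊤)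
        (pbS (f ≫ q) N n : Sec ((Scheme.Modules.pullback (f ≫ q)).obj N) ⊤) := by
    rw [← res_pbS f _ (le_top : V ≤ ⊤) le_top]
    refine (appS_res ((Scheme.Modules.pullbackComp f q).hom.app N) (le_top : f ⁻¹ᵁ V ≤ ⊤) _).trans ?_
    exact congrArg _ (Groth.Agent.Fdesc.LocGen.pullSec_comp' f q n)
  have h2 : appS ((Scheme.Modules.pullbackCongr hq).hom.app N) (f ⁻¹ᵁ V)
      (res ((Scheme.Modules.pullback (f ≫ q)).obj N) (le_top : f ⁻¹ᵁ V ≤ ⊤)
        (pbS (f ≫ q) N n : Sec ((Scheme.Modules.pullback (f ≫ q)).obj N) ⊤)) =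
      res ((Scheme.Modules.pullback (𝟙 X)).obj N) (le_top : f ⁻¹ᵁ V ≤ ⊤)
        (pbS (𝟙 X) N n : Sec ((Scheme.Modules.pullback (𝟙 X)).obj N) ⊤) := by
    rw [appS_res]
    refine congrArg _ ?_
    refine (K249.LFDesc.congr_pbS hq N (U := ⊤) le_rfl n).trans ?_
    exact res_self _ _ _
  rw [map_smul, map_smul, h1]
  erw [h2]
  rw [res_smul, res_res]
  erw [res_self]
  rw [map_smul, K670.PbComp.pbS_id]
  rfl

variable {S : Scheme.{u}} {C : Over S}

theorem appS_psec {T : Over S} {N : C.left.Modules} (y : T ⟶ C) (v : Coh.structureModule C.left ⟶ N)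
    (U : C.left.Opens) :
    appS (psec y v) (y.left ⁻¹ᵁ U) (one T.left (y.left ⁻¹ᵁ U)) = pbS y.left N (appS v U (one C.left U)) := by
  have h := pullUnitIso_one y.left U
  have h2 : appS (Groth.Agent.Krr.H482.PullTens.pullUnitIso y.left).inv (y.left ⁻¹ᵁ U) (one T.left (y.left ⁻¹ᵁ U)) =
      pbS y.left _ (one C.left U) := by
    rw [← h, appS_hom_inv]
  unfold psec
  rw [appS_comp, h2, appS_pbS]

theorem appS_sec {T : Over S} {N : C.left.Modules} (v : Coh.structureModule C.left ⟶ N) :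
    appS (sec (T := T) v) ⊤ (one T.left ⊤) = (pbS (qr C T).left N (appS v ⊤ (one C.left ⊤)) :
      Sec ((Scheme.Modules.pullback (qr C T).left).obj N) ⊤) := by
  have h1 : appS (ClSub.unitToPush (pr C T).left) ⊤ (one T.left ⊤) = one (TX C T).left ⊤ :=
    map_one ((pr C T).left.app ⊤).hom
  unfold sec
  rw [appS_comp, h1]
  exact appS_psec (qr C T) v ⊤

/-- The generalized form of `nonempty_tw_pull`. -/
theorem tw_pull' (hpull : ∀ {T U : Over S} (f : U ⟶ T) (N : C.left.Modules) (l : List (T ⟶ C)) (y : T ⟶ C),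
    ∃ e : (Scheme.Modules.pullback f.left).obj (tw N l y) ≅ tw N (l.map fun z => f ≫ z) (f ≫ y),
      e.hom ≫ twι N (l.map fun z => f ≫ z) (f ≫ y) =
        (Scheme.Modules.pullback f.left).map (twι N l y) ≫
          (Scheme.Modules.pullbackComp f.left y.left).hom.app N)
    {T U : Over S} (f : U ⟶ T) (N : C.left.Modules) (l : List (T ⟶ C)) (y : T ⟶ C)
    (l' : List (U ⟶ C)) (hl : (l.map fun z => f ≫ z) = l') (y' : U ⟶ C) (hy : f ≫ y = y') :
    ∃ e : (Scheme.Modules.pullback f.left).obj (tw N l y) ≅ tw N l' y',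
      e.hom ≫ twι N l' y' =
        (Scheme.Modules.pullback f.left).map (twι N l y) ≫
          (Scheme.Modules.pullbackComp f.left y.left).hom.app N ≫
          (Scheme.Modules.pullbackCongr (show f.left ≫ y.left = y'.left by rw [← hy]; rfl)).hom.app N := by
  subst hl hy
  obtain ⟨e, he⟩ := hpull f N l y
  refine ⟨e, he.trans ?_⟩
  have : (Scheme.Modules.pullbackCongr (rfl : f.left ≫ y.left = f.left ≫ y.left)).hom = 𝟙 _ := rfl
  change _ = _ ≫ _ ≫ (Scheme.Modules.pullbackCongr (rfl : f.left ≫ y.left = f.left ≫ y.left)).hom.app N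
  rw [this, NatTrans.id_app]
  erw [Category.comp_id]

theorem hom_ext_one {X : Scheme.{u}} {M : X.Modules} {f g : Coh.structureModule X ⟶ M}
    (h : appS f ⊤ (one X ⊤) = appS g ⊤ (one X ⊤)) : f = g := by
  apply hom_ext
  intro U s
  have h1 : s = toO s • res (Coh.structureModule X) le_top (one X ⊤) := by
    rw [res_one, toO_smul_one]
  rw [h1, map_smul, map_smul, appS_res, appS_res, h]

theorem map_up {T : Over S} (t : pt S ⟶ T) (l : List (T ⟶ C)) :
    ((up l).map fun z => lft (toPt C ≫ t) (𝟙 C) ≫ z) = (l.map fun z => t ≫ z).map cst := by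
  unfold up cst
  rw [List.map_map, List.map_map]
  refine List.map_congr_left fun z _ => ?_
  simp


/-- the statement of `nonempty_tw_pull` -/
def TwPull (C : Over S) : Prop :=
  ∀ {T U : Over S} (f : U ⟶ T) (N : C.left.Modules) (l : List (T ⟶ C)) (y : T ⟶ C),
    ∃ e : (Scheme.Modules.pullback f.left).obj (tw N l y) ≅ tw N (l.map fun z => f ≫ z) (f ≫ y),
      e.hom ≫ twι N (l.map fun z => f ≫ z) (f ≫ y) =
        (Scheme.Modules.pullback f.left).map (twι N l y) ≫
          (Scheme.Modules.pullbackComp f.left y.left).hom.app N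

theorem van_of_sec (hpull : TwPull C) {N : C.left.Modules} {T : Over S} (t : pt S ⟶ T) (l : List (T ⟶ C))
    (U : T.left.Opens) (hU : (⊤ : C.left.Opens) ≤ (toPt C ≫ t).left ⁻¹ᵁ U)
    (σ : Sec (K N l) U) {m : ℕ} (F : Fin m → Γ(T.left, U)) (b : Fin m → (Coh.structureModule C.left ⟶ N))
    (h : appS (Kι N l) U σ =
      ∑ i, F i • res (K N ([] : List (T ⟶ C))) le_top (appS (sec (T := T) (b i)) ⊤ (one T.left ⊤)))
    (v : Coh.structureModule C.left ⟶ N)
    (hv : appS v ⊤ (one C.left ⊤) =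
      ∑ i, ((toPt C ≫ t).left.appLE U ⊤ hU (F i) : Γ(C.left, ⊤)) • appS (b i) ⊤ (one C.left ⊤)) :
    Van N (l.map fun z => t ≫ z) v := by
  set f : C ⟶ TX C T := lft (toPt C ≫ t) (𝟙 C) with hf
  have hfq : f ≫ qr C T = 𝟙 C := lft_qr _ _
  have hfp : f ≫ pr C T = toPt C ≫ t := lft_pr _ _
  obtain ⟨e, he⟩ := tw_pull' (fun {T U} => hpull (T := T) (U := U)) f N (up l) (qr C T) _ (map_up t l) (𝟙 C) hfq
  have hV : (⊤ : C.left.Opens) ≤ f.left ⁻¹ᵁ ((pr C T).left ⁻¹ᵁ U) := by
    have : f.left ⁻¹ᵁ ((pr C T).left ⁻¹ᵁ U) = (f ≫ pr C T).left ⁻¹ᵁ U := rfl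
    rw [this, hfp]
    exact hU
  let σ' : Sec (tw N (up l) (qr C T)) ((pr C T).left ⁻¹ᵁ U) := σ
  let W : Sec (twp N (l.map fun z => t ≫ z)) ⊤ := res _ hV (appS e.hom _ (pbS f.left _ σ'))
  refine ⟨homUnit _ W, ?_⟩
  apply hom_ext_one
  rw [appS_comp, homUnit_one, hv, res_self]
  -- the value of `twι` on `W`
  have h1 : appS (twι N ((l.map fun z => t ≫ z).map cst) (𝟙 C)) ⊤ W =
      res _ hV (appS ((Scheme.Modules.pullbackCongr (show f.left ≫ (qr C T).left = (𝟙 C : C ⟶ C).left by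
          rw [← hfq]; rfl)).hom.app N) _
        (appS ((Scheme.Modules.pullbackComp f.left (qr C T).left).hom.app N) _
          (pbS f.left _ (appS (twι N (up l) (qr C T)) _ σ')))) := by
    change appS _ ⊤ (res _ hV (appS e.hom _ (pbS f.left _ σ'))) = _
    rw [appS_res, ← appS_comp, he, appS_comp, appS_comp, appS_pbS]
  -- the sections of `q^* N`
  have h2 : (appS (twι N (up l) (qr C T)) _ σ' : Sec ((Scheme.Modules.pullback (qr C T).left).obj N) ((pr C T).left ⁻¹ᵁ U)) =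
      ∑ i, ((pr C T).left.app U (F i) : Γ((TX C T).left, (pr C T).left ⁻¹ᵁ U)) •
        res ((Scheme.Modules.pullback (qr C T).left).obj N) le_top
          (pbS (qr C T).left N (appS (b i) ⊤ (one C.left ⊤)) :
            Sec ((Scheme.Modules.pullback (qr C T).left).obj N) ⊤) := by
    refine h.trans ?_
    refine Finset.sum_congr rfl fun i _ => ?_
    rw [appS_sec]
    rfl
  refine (congrArg (appS ((Scheme.Modules.pullbackId C.left).hom.app N) ⊤) h1).trans ?_
  rw [h2]
  rw [map_sum, map_sum, map_sum, map_sum]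
  erw [map_sum]
  refine Finset.sum_congr rfl fun i _ => ?_
  rw [pbS_smul]
  refine (term_eq f.left (qr C T).left (congrArg CommaMorphism.left hfq) N _ hV _ _).trans ?_
  congr 1
  have hfp' : f.left ≫ (pr C T).left = (toPt C ≫ t).left := congrArg CommaMorphism.left hfp
  have h5 : ((pr C T).left.app U ≫ f.left.appLE ((pr C T).left ⁻¹ᵁ U) ⊤ hV) (F i) =
      (toPt C ≫ t).left.appLE U ⊤ hU (F i) := by
    rw [Scheme.Hom.app_eq_appLE, Scheme.Hom.appLE_comp_appLE]
    simp only [hfp']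
  exact h5


end gen

section field

variable {k : Type u} [Field k]

/-- the value of a function at a rational point -/
theorem appLE_point' {T : Scheme.{u}} [T.Over (Spec (CommRingCat.of k))] (t : Spec (CommRingCat.of k) ⟶ T)
    (ht : t ≫ (T ↘ Spec (CommRingCat.of k)) = 𝟙 _) (U : T.Opens)
    (hU : (⊤ : (Spec (CommRingCat.of k)).Opens) ≤ t ⁻¹ᵁ U) (hx : t (IsLocalRing.closedPoint k) ∈ U) (F : Γ(T, U)) (c : k)
    (h : gerO (t (IsLocalRing.closedPoint k)) hx F - Curv2.stalkMap k T (t (IsLocalRing.closedPoint k)) c ∈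
      IsLocalRing.maximalIdeal (T.presheaf.stalk (t (IsLocalRing.closedPoint k)))) :
    t.appLE U ⊤ hU F = (Scheme.ΓSpecIso (CommRingCat.of k)).inv c := by
  set x := t (IsLocalRing.closedPoint k) with hxdef
  let d : Γ(T, U) := F - resO T (le_top : U ≤ ⊤) (Coh.toGlobal (T ↘ Spec (CommRingCat.of k)) c)
  have hd : gerO x hx d ∈ IsLocalRing.maximalIdeal (T.presheaf.stalk x) := by
    have h1 : gerO x hx d = gerO x hx F - Curv2.stalkMap k T x c := by
      change (T.presheaf.germ U x hx).hom _ = _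
      rw [map_sub]
      congr 1
      exact gerO_res (le_top : U ≤ ⊤) x hx (Coh.toGlobal (T ↘ Spec (CommRingCat.of k)) c)
    rw [h1]
    exact h
  have h2 : t.appLE U ⊤ hU (resO T (le_top : U ≤ ⊤) (Coh.toGlobal (T ↘ Spec (CommRingCat.of k)) c)) =
      (Scheme.ΓSpecIso (CommRingCat.of k)).inv c := by
    change (T.presheaf.map (homOfLE (le_top : U ≤ ⊤)).op ≫ t.appLE U ⊤ hU) (Coh.toGlobal _ c) = _
    rw [Scheme.Hom.map_appLE]
    have h3 : t.appLE ⊤ ⊤ le_top = t.appTop := (Scheme.Hom.app_eq_appLE t).symm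
    have h4 : (T ↘ Spec (CommRingCat.of k)).appTop ≫ t.appTop = 𝟙 _ := by
      rw [← Scheme.Hom.comp_appTop, ht, Scheme.Hom.id_appTop]
    rw [h3]
    exact congr($h4 ((Scheme.ΓSpecIso (CommRingCat.of k)).inv c))
  have h3 : t.appLE U ⊤ hU d = 0 := by
    by_contra hne
    have h4 : (Scheme.ΓSpecIso (CommRingCat.of k)).hom (t.appLE U ⊤ hU d) ≠ 0 := by
      intro h0
      apply hne
      have := congr($((Scheme.ΓSpecIso (CommRingCat.of k)).hom_inv_id) (t.appLE U ⊤ hU d))
      rw [CommRingCat.comp_apply, h0, map_zero] at this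
      exact this.symm
    have h5 : IsUnit ((Scheme.ΓSpecIso (CommRingCat.of k)).hom (t.appLE U ⊤ hU d)) :=
      isUnit_iff_ne_zero.mpr h4
    have h6 : IsUnit (t.appLE U ⊤ hU d) := by
      have h7 := h5.map (Scheme.ΓSpecIso (CommRingCat.of k)).inv.hom
      have := congr($((Scheme.ΓSpecIso (CommRingCat.of k)).hom_inv_id) (t.appLE U ⊤ hU d))
      rw [CommRingCat.comp_apply] at this
      exact this ▸ h7
    have h8 : (⊤ : (Spec (CommRingCat.of k)).Opens) ≤ t ⁻¹ᵁ (T.basicOpen d) := by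
      have h9 := Scheme.basicOpen_appLE t ⊤ U hU d
      rw [Scheme.basicOpen_of_isUnit _ h6] at h9
      rw [h9]
      exact inf_le_right
    have h10 : x ∈ T.basicOpen d := h8 (Set.mem_univ (IsLocalRing.closedPoint k))
    rw [Scheme.mem_basicOpen _ _ _ hx] at h10
    exact (IsLocalRing.mem_maximalIdeal _).mp hd h10
  have h4 : t.appLE U ⊤ hU d = t.appLE U ⊤ hU F - (Scheme.ΓSpecIso (CommRingCat.of k)).inv c := by
    rw [← h2]
    exact map_sub _ _ _
  rw [h4] at h3
  exact sub_eq_zero.mp h3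

variable {C : Over (Spec (CommRingCat.of k))}

theorem smul_one_apply {X : Scheme.{u}} [X.Over (Spec (CommRingCat.of k))] {N : X.Modules}
    (c : k) (v : Coh.structureModule X ⟶ N) :
    appS (c • v) ⊤ (one X ⊤) =
      (Coh.toGlobal (X ↘ Spec (CommRingCat.of k)) c : Γ(X, ⊤)) • appS v ⊤ (one X ⊤) := by
  refine (KLin.smul_app_apply (A := k) c v ⊤ (one X ⊤)).trans ?_
  congr 1
  exact resO_self le_rfl _

theorem van_of_stalk (hpull : TwPull C) {N : C.left.Modules} {T : Over (Spec (CommRingCat.of k))}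
    (t : pt (Spec (CommRingCat.of k)) ⟶ T) (l : List (T ⟶ C)) {m : ℕ}
    (b : Fin m → (Coh.structureModule C.left ⟶ N)) (c : Fin m → k)
    (s : (K N l).presheaf.stalk (atp t)) (f : Fin m → T.left.presheaf.stalk (atp t))
    (h1 : Groth.Agent.CycB.StalkExact.stalkLin (Kι N l) (atp t) s = ∑ i, f i • gsec (atp t) (b i))
    (h2 : ∀ i, f i - Curv2.stalkMap k T.left (atp t) (c i) ∈
      IsLocalRing.maximalIdeal (T.left.presheaf.stalk (atp t))) :
    Van N (l.map fun z => t ≫ z) (∑ i, c i • b i) := by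
  obtain ⟨U₁, hx₁, σ₁, rfl⟩ := exists_ger (K N l) (atp t) s
  obtain ⟨U, hU, hx, F, hF⟩ := exists_gerO_family (atp t) f U₁ hx₁
  have h3 : ger (K N ([] : List (T ⟶ C))) (atp t) hx (appS (Kι N l) U (res _ hU σ₁)) =
      ger (K N ([] : List (T ⟶ C))) (atp t) hx
        (∑ i, F i • res (K N ([] : List (T ⟶ C))) le_top (appS (sec (T := T) (b i)) ⊤ (one T.left ⊤))) := by
    rw [← stalkLin_ger, ger_res, h1, ger_sum]
    refine Finset.sum_congr rfl fun i _ => ?_
    rw [ger_smul, ger_res, hF]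
    rfl
  obtain ⟨V, hV, hxV, h4⟩ := exists_res_eq _ _ _ _ _ h3
  rw [← appS_res, res_res, map_sum] at h4
  have hV' : (⊤ : (Spec (CommRingCat.of k)).Opens) ≤ t.left ⁻¹ᵁ V := by
    intro y _
    have : y = IsLocalRing.closedPoint k := Subsingleton.elim _ _
    rw [this]
    exact hxV
  have hW : (⊤ : C.left.Opens) ≤ (toPt C ≫ t).left ⁻¹ᵁ V := fun y _ => hV' (Set.mem_univ ((toPt C).left y))
  refine van_of_sec hpull t l V hW (res (K N l) (hV.trans hU) σ₁) (fun i => resO T.left hV (F i)) b ?_ _ ?_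
  · refine h4.trans ?_
    refine Finset.sum_congr rfl fun i _ => ?_
    rw [res_smul, res_res]
  · rw [show appS (∑ i, c i • b i) ⊤ (one C.left ⊤) = ∑ i, appS (c i • b i) ⊤ (one C.left ⊤) from
      appS_sum _ _ _ _ _]
    refine Finset.sum_congr rfl fun i _ => ?_
    rw [smul_one_apply]
    congr 1
    have hp := appLE_point' t.left (Over.w t) V hV' hxV (resO T.left hV (F i)) (c i) (by
      rw [gerO_res]
      have := h2 i
      rw [← hF i] at this
      exact this)
    have h5 : (toPt C ≫ t).left.appLE V ⊤ hW (resO T.left hV (F i)) =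
        C.hom.appLE ⊤ ⊤ le_top (t.left.appLE V ⊤ hV' (resO T.left hV (F i))) := by
      have : (t.left.appLE V ⊤ hV' ≫ C.hom.appLE ⊤ ⊤ le_top) =
        (C.hom ≫ t.left).appLE V ⊤ hW := Scheme.Hom.appLE_comp_appLE _ _ _ _ _ _ _
      exact congr($this.symm (resO T.left hV (F i)))
    rw [h5, hp]
    have h6 : C.hom.appLE ⊤ ⊤ le_top = C.hom.appTop := (Scheme.Hom.app_eq_appLE C.hom).symm
    exact congr($h6.symm ((Scheme.ΓSpecIso (CommRingCat.of k)).inv (c i)))

end field

end K924.Fib
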